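import Cfsg.Agent.H544.Rg.Bound
import Cfsg.Agent.H976.Rg.Inst
import Cfsg.Agent.H96.Rg.SixField
import Cfsg.Agent.H803.Rl.UNot
import Cfsg.Agent.H655.Rg.Ord
import Cfsg.Agent.S5781

/-!
# S3691, task SP68-5: subgroups of `SL_4(2^f)` of order divisible by a primitive prime divisor of `2^(4f) - 1` (helper528)

`sl_four` : a proper subgroup of `SL_4(2^f)` of order divisible by `r_4` has order prime to `r_3` and 2-part at most `2^(2f+1)` or
equal to `2^(4f)`.
-/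

set_option autoImplicit false

namespace Cfsg.Agent.H528.O6p

open Cfsg Cfsg.Geo Module Matrix
open Cfsg.Agent.H884.El (PP kill_subfield decomp_le)
open scoped MatrixGroups Matrix

variable {F : Type} [Field F] [Fintype F] {f r s : ℕ}

theorem not_dvd_two_pow {n : ℕ} (hs : PP 2 n s) (hn : 1 ≤ n) (k : ℕ) : ¬ s ∣ 2 ^ k :=
  fun h => hs.not_dvd hn (hs.prime.dvd_of_dvd_pow h)

theorem not_dvd_sub {n : ℕ} (hs : PP 2 n s) {a k : ℕ} (h : ¬ n ∣ a * k) : ¬ s ∣ (2 ^ a) ^ k - 1 := by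
  rw [← pow_mul, hs.dvd_iff (by norm_num)]
  exact h

theorem three_not_dvd {f k : ℕ} (hf : 1 ≤ f) (hk : ¬ 3 ∣ k) : ¬ 3 * f ∣ f * k := by
  intro h
  rw [mul_comm 3 f] at h
  exact hk (Nat.dvd_of_mul_dvd_mul_left (by omega) h)

/-- normalisers of quadratic fields -/
theorem card_field (hF : Fintype.card F = 2 ^ f) {K : Subalgebra F (Matrix (Fin 4) (Fin 4) F)}
    (hK : IsFieldSubalgebra 2 K) {X : Subgroup (GL (Fin 4) F)} (hX : X ≤ subalgebraNormalizer K) :
    Nat.card X ∣ 2 * (2 ^ f) ^ 2 * (((2 ^ f) ^ 4 - 1) * ((2 ^ f) ^ 2 - 1)) := by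
  obtain ⟨P, hPX, hc, j, hj, hcard⟩ := H976.Rg.card_le_two_mul hK hX
  have h1 := H96.Rg.card_comm_dvd hK (n := 2) (by simp) (by norm_num) hc
  rw [Fin.prod_univ_two, Nat.card_eq_fintype_card (α := F), hF] at h1
  have hj0 : j ≠ 0 := by
    rintro rfl
    rw [mul_zero] at hcard
    exact Nat.card_pos.ne' hcard
  have hj2 : j ∣ 2 := by
    interval_cases j
    · exact absurd rfl hj0
    · exact one_dvd _
    · exact dvd_rfl
  rw [hcard, mul_comm (Nat.card P), mul_assoc]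
  refine Nat.mul_dvd_mul hj2 (h1.trans (dvd_of_eq ?_))
  have e1 : ((0 : Fin 2) : ℕ) = 0 := rfl
  have e2 : ((1 : Fin 2) : ℕ) = 1 := rfl
  rw [e1, e2, pow_zero, pow_one]
  have h2 : 1 ≤ (2 ^ f) ^ 2 := Nat.one_le_pow _ _ (by positivity)
  obtain ⟨c, hc⟩ : ∃ c, (2 ^ f) ^ 2 = c + 1 := ⟨_, (Nat.sub_add_cancel h2).symm⟩
  have h4 : (2 ^ f) ^ 4 = ((2 ^ f) ^ 2) ^ 2 := by ring
  rw [h4, hc]
  have h5 : (c + 1) ^ 2 - (c + 1) = (c + 1) * (c + 1 - 1) := by
    rw [Nat.mul_sub, mul_one, sq]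
  rw [h5]
  ring

omit [Fintype F] in
/-- the multiplier of a symplectic similitude of determinant one in characteristic two -/
theorem mult_eq_one [CharP F 2] {M : Matrix (Fin 2 ⊕ Fin 2) (Fin 2 ⊕ Fin 2) F} {c : F}
    (h : ∀ u v, sympForm 2 F (M *ᵥ u) (M *ᵥ v) = c * sympForm 2 F u v) (hd : M.det = 1) : c = 1 := by
  have h1 : Mᵀ * Matrix.J (Fin 2) F * M = c • Matrix.J (Fin 2) F := by
    ext i j
    have h2 := h (Pi.single i 1) (Pi.single j 1)
    have e1 : ∀ A : Matrix (Fin 2 ⊕ Fin 2) (Fin 2 ⊕ Fin 2) F, ∀ a b : Fin 2 ⊕ Fin 2 → F,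
        (A *ᵥ a) ⬝ᵥ b = a ⬝ᵥ (Aᵀ *ᵥ b) := fun A a b => by
      rw [Matrix.dotProduct_mulVec, Matrix.vecMul_transpose]
    unfold sympForm at h2
    rw [e1, Matrix.mulVec_mulVec, Matrix.mulVec_mulVec, single_one_dotProduct, single_one_dotProduct,
      Matrix.mulVec_single_one, Matrix.mulVec_single_one] at h2
    exact h2
  have h2 := congrArg Matrix.det h1
  rw [Matrix.det_mul, Matrix.det_mul, Matrix.det_transpose, Matrix.det_smul, hd] at h2
  have hJ := Matrix.isUnit_det_J (l := Fin 2) (R := F)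
  have h3 : c ^ 4 = 1 := by
    have h4 : Fintype.card (Fin 2 ⊕ Fin 2) = 4 := by simp
    rw [h4, one_mul, mul_one] at h2
    exact (mul_right_cancel₀ hJ.ne_zero ((one_mul _).trans h2)).symm
  have h5 : (c + 1) ^ 4 = 0 := by
    have e : (c + 1) ^ 4 = ((c + 1) ^ 2) ^ 2 := by ring
    rw [e, CharTwo.add_sq, CharTwo.add_sq, one_pow, one_pow, ← pow_mul, h3]
    exact CharTwo.add_self_eq_zero 1
  have h6 := pow_eq_zero_iff (by norm_num) |>.1 h5
  exact CharTwo.add_eq_zero.1 h6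


omit [Fintype F] in
/-- transport of a symplectic similarity group in `SL_4` -/
theorem symp_hom [CharP F 2] {g : (Fin 4 → F) → (Fin 4 → F) → F} (hg : IsSymplecticForm g) :
    ∃ Φ : GL (Fin 4) F →* GL (Fin 2 ⊕ Fin 2) F, Function.Injective Φ ∧
      ∀ x ∈ similarityGroup g ⊓ specialLinear (Fin 4) F, Φ x ∈ spGL 2 F := by
  obtain ⟨k, ε, S, hS⟩ := H953.exists_std hg
  have hk : k = 2 := by
    have := Fintype.card_congr ε
    simp at this
    omega
  subst hk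
  refine ⟨(glReindex (F := F) ε).symm.toMonoidHom.comp (MulAut.conj S⁻¹).toMonoidHom,
    (glReindex (F := F) ε).symm.injective.comp (MulAut.conj S⁻¹).injective, ?_⟩
  rintro x ⟨⟨c, hc⟩, hx⟩
  obtain ⟨y, hy⟩ : ∃ y : GL (Fin 2 ⊕ Fin 2) F, y = (glReindex (F := F) ε).symm (S⁻¹ * x * S⁻¹⁻¹) := ⟨_, rfl⟩
  have hy' : glReindex (F := F) ε y = S⁻¹ * x * S := by rw [hy, MulEquiv.apply_symm_apply, inv_inv]
  have key : ∀ u v, sympForm 2 F ((y : Matrix (Fin 2 ⊕ Fin 2) (Fin 2 ⊕ Fin 2) F) *ᵥ u)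
      ((y : Matrix (Fin 2 ⊕ Fin 2) (Fin 2 ⊕ Fin 2) F) *ᵥ v) = (c : F) * sympForm 2 F u v := by
    have h0 : ∀ u v : Fin 4 → F, sympForm 2 F ((y : Matrix (Fin 2 ⊕ Fin 2) (Fin 2 ⊕ Fin 2) F) *ᵥ (u ∘ ε))
        ((y : Matrix (Fin 2 ⊕ Fin 2) (Fin 2 ⊕ Fin 2) F) *ᵥ (v ∘ ε)) = (c : F) * sympForm 2 F (u ∘ ε) (v ∘ ε) := by
      intro u v
      have e0 : ∀ a b : Fin 2 ⊕ Fin 2 → F, sympForm 2 F a b = - H953.stdForm 2 F a b := fun a b => by
        rw [H655.Rg.stdForm_eq, neg_neg]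
      have e1 : ∀ w : Fin 4 → F, (S : Matrix (Fin 4) (Fin 4) F) *ᵥ
          (((glReindex ε y : GL (Fin 4) F) : Matrix (Fin 4) (Fin 4) F) *ᵥ w) =
          (x : Matrix (Fin 4) (Fin 4) F) *ᵥ ((S : Matrix (Fin 4) (Fin 4) F) *ᵥ w) := by
        intro w
        rw [hy', Matrix.mulVec_mulVec, Matrix.mulVec_mulVec, ← Units.val_mul, ← Units.val_mul]
        congr 2
        group
      rw [e0, e0, ← H655.Rg.reindex_mulVec, ← H655.Rg.reindex_mulVec, ← hS, ← hS, e1, e1, hc]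
      ring
    intro u v
    have h1 := h0 (u ∘ ε.symm) (v ∘ ε.symm)
    have e : ∀ w : Fin 2 ⊕ Fin 2 → F, (w ∘ ε.symm) ∘ ε = w := fun w => by
      funext i
      simp
    rwa [e, e] at h1
  have hdet : (y : Matrix (Fin 2 ⊕ Fin 2) (Fin 2 ⊕ Fin 2) F).det = 1 := by
    have h1 : ((glReindex ε y : GL (Fin 4) F) : Matrix (Fin 4) (Fin 4) F).det =
        (y : Matrix (Fin 2 ⊕ Fin 2) (Fin 2 ⊕ Fin 2) F).det := by
      change (Matrix.reindexAlgEquiv F F ε (y : Matrix (Fin 2 ⊕ Fin 2) (Fin 2 ⊕ Fin 2) F)).det = _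
      rw [Matrix.det_reindexAlgEquiv]
    have h2 : (x : Matrix (Fin 4) (Fin 4) F).det = 1 := by
      have h3 : Matrix.GeneralLinearGroup.det x = 1 := hx
      exact congrArg Units.val h3
    rw [← h1, hy', Units.val_mul, Units.val_mul, Matrix.det_mul, Matrix.det_mul, h2, mul_one, ← Matrix.det_mul,
      ← Units.val_mul, inv_mul_cancel, Units.val_one, Matrix.det_one]
  have hc1 := mult_eq_one key hdet
  change (glReindex (F := F) ε).symm (S⁻¹ * x * S⁻¹⁻¹) ∈ spGL 2 F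
  rw [← hy]
  intro u v
  have h1 := key u v
  rw [hc1, one_mul] at h1
  exact h1

/-- the order of `Sp_4(2^f)` -/
theorem card_sp4 (hF : Fintype.card F = 2 ^ f) :
    Nat.card (spGL 2 F) = (2 ^ f) ^ 4 * (((2 ^ f) ^ 2 - 1) * ((2 ^ f) ^ 4 - 1)) := by
  rw [H955.card_spGL, Nat.card_eq_fintype_card, hF, Finset.prod_range_succ, Finset.prod_range_one]
  norm_num

theorem odd_mul {a : ℕ} (ha : 1 ≤ a) : ¬ 2 ∣ ((2 ^ a) ^ 2 - 1) * ((2 ^ a) ^ 4 - 1) := by
  rw [Nat.prime_two.dvd_mul]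
  rintro (h | h)
  · exact H544.Rg.odd_sub ha (by norm_num) h
  · exact H544.Rg.odd_sub ha (by norm_num) h

theorem fac_sp4 (hF : Fintype.card F = 2 ^ f) (hf : 1 ≤ f) : (Nat.card (spGL 2 F)).factorization 2 = 4 * f := by
  have h0 := odd_mul hf
  have h1 : ((2 ^ f) ^ 2 - 1) * ((2 ^ f) ^ 4 - 1) ≠ 0 := fun h => h0 (h ▸ dvd_zero 2)
  rw [card_sp4 hF, Nat.factorization_mul (by positivity) h1, Finsupp.add_apply,
    Nat.factorization_eq_zero_of_not_dvd h0, ← pow_mul, Nat.Prime.factorization_pow Nat.prime_two,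
    Finsupp.single_eq_same, add_zero, mul_comm]

/-- symplectic groups -/
theorem symp_case (hF : Fintype.card F = 2 ^ f) (hf : 2 ≤ f) (hr : PP 2 (4 * f) r) (hs : PP 2 (3 * f) s)
    {g : (Fin 4 → F) → (Fin 4 → F) → F} (hg : IsSymplecticForm g) {X : Subgroup (GL (Fin 4) F)}
    (hX : X ≤ similarityGroup g ⊓ specialLinear (Fin 4) F) (hrX : r ∣ Nat.card X) :
    ¬ s ∣ Nat.card X ∧ ((Nat.card X).factorization 2 ≤ 2 * f + 1 ∨ (Nat.card X).factorization 2 = 4 * f) := by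
  have hchar : CharP F 2 := H544.Rg.charP_two hF
  obtain ⟨Φ, hΦ, hmem⟩ := symp_hom hg
  have hle : X.map Φ ≤ spGL 2 F := by
    rintro _ ⟨x, hx, rfl⟩
    exact hmem x (hX hx)
  have hcard : Nat.card (X.map Φ) = Nat.card X := Subgroup.card_map_of_injective hΦ
  rw [← hcard] at hrX ⊢
  constructor
  · intro h
    have h1 := h.trans (Subgroup.card_dvd_of_le hle)
    rw [card_sp4 hF, hs.prime.dvd_mul, hs.prime.dvd_mul] at h1
    rcases h1 with h1 | h1 | h1
    · rw [← pow_mul] at h1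
      exact not_dvd_two_pow hs (by omega) _ h1
    · exact not_dvd_sub hs (three_not_dvd (by omega) (by norm_num)) h1
    · exact not_dvd_sub hs (three_not_dvd (by omega) (by norm_num)) h1
  · by_cases hne : X.map Φ = spGL 2 F
    · right
      rw [hne]
      exact fac_sp4 hF (by omega)
    · left
      have hchr : H436.Prim 2 (4 * f) r := ⟨hr.prime, fun k => hr.dvd_iff (by norm_num) k, hr.not_dvd (by omega)⟩
      exact H544.Rg.two_part hF hf hchr hle hne hrX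

/-- unitary groups -/
theorem unit_false (hF : Fintype.card F = 2 ^ f) (hf : 1 ≤ f) (hr : PP 2 (4 * f) r) {σ : F ≃+* F}
    {g : (Fin 4 → F) → (Fin 4 → F) → F} (hg : IsUnitaryForm σ g) {X : Subgroup (GL (Fin 4) F)}
    (hX : X ≤ similarityGroup g) (hrX : r ∣ Nat.card X) : False := by
  have : Fact r.Prime := ⟨hr.prime⟩
  obtain ⟨x, hx⟩ := exists_prime_orderOf_dvd_card' (G := X) r hrX
  have hx' : orderOf (x : GL (Fin 4) F) = r := by rw [Subgroup.orderOf_coe, hx]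
  have hrF : ¬ r ∣ Fintype.card F := by
    rw [hF]
    exact not_dvd_two_pow hr (by omega) f
  have hordF : orderOf ((Fintype.card F : ℕ) : ZMod r) = 4 := by
    rw [hF]
    exact (PP.of_pow (a := f) (d := 4) (p := 2) (r := r) (by rw [mul_comm]; exact hr) hf).ord
  have hP : Cfsg.Agent.H728.DghpNum.Ppd (Fintype.card F) 4 r := ⟨hr.prime, hordF, hrF⟩
  obtain ⟨c, hc⟩ := hX x.2
  have hc1 := Cfsg.Agent.H304.Ppd.multiplier_eq_one hP (by norm_num) hx'
    (Cfsg.Agent.H304.Ppd.exists_ne_zero hg.nondegenerate) hc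
  have hs := H914.IsSesq.of_unitary hg
  have h1 := H914.fixes_gram hs (M := ((x : GL (Fin 4) F) : Matrix (Fin 4) (Fin 4) F)) (fun a b => by
    rw [hc, hc1, Units.val_one, one_mul])
  obtain ⟨p, k, hp, hchar, hcard, hσ⟩ := Cfsg.Agent.H304.Ppd.exists_frobenius hg.ne_refl hg.involutive
  have : Fact p.Prime := ⟨hp⟩
  have hp2 : p = 2 := CharP.eq F hchar (H544.Rg.charP_two hF)
  subst hp2
  have h2 : ((x : GL (Fin 4) F) : Matrix (Fin 4) (Fin 4) F).map σ =
      ((x : GL (Fin 4) F) : Matrix (Fin 4) (Fin 4) F).map (fun a => a ^ 2 ^ k) := by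
    ext i j
    exact hσ _
  rw [h2] at h1
  obtain ⟨i, hi⟩ := H803.Rl.exists_neg hr.prime hordF hrF (not_dvd_two_pow hr (by omega) k) (by simp) hx'
    (H914.det_gram_ne_zero hs hg.nondegenerate) h1
  have hfk : f = k * 2 := by
    rw [hF, ← pow_mul] at hcard
    exact Nat.pow_right_injective le_rfl hcard
  have h3 := congrArg (fun z : ZMod r => z ^ 4) hi
  simp only [Even.neg_pow (by decide : Even 4)] at h3
  have h4 : ((Fintype.card F : ℕ) : ZMod r) ^ 4 = 1 := by rw [← hordF]; exact pow_orderOf_eq_one _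
  rw [← pow_mul, mul_comm i 4, pow_mul, h4, one_pow, Nat.cast_pow, ← pow_mul] at h3
  have h5 := orderOf_dvd_of_pow_eq_one h3
  have h6 := hr.ord
  rw [h6] at h5
  have h7 := Nat.le_of_dvd (by omega) h5
  omega

/-- no maximal subgroup of `SL_4(F)` lies in the residual class (S5782 for non-prime fields) -/
def NoRes (F : Type) [Field F] : Prop :=
  ∀ H : Subgroup (GL (Fin 4) F), IsMaximalIn (specialLinear (Fin 4) F) H → ¬ InLinearResidualClass H

/-- **subgroups of `SL_4(2^f)`** -/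
theorem sl_four (hres : NoRes F) (hF : Fintype.card F = 2 ^ f) (hf : 2 ≤ f) (hr : PP 2 (4 * f) r) (hs : PP 2 (3 * f) s)
    {X : Subgroup (GL (Fin 4) F)} (hX : X ≤ specialLinear (Fin 4) F) (hne : X ≠ specialLinear (Fin 4) F)
    (hrX : r ∣ Nat.card X) :
    ¬ s ∣ Nat.card X ∧ ((Nat.card X).factorization 2 ≤ 2 * f + 1 ∨ (Nat.card X).factorization 2 = 4 * f) := by
  classical
  obtain ⟨H, hH, hXH⟩ := Cfsg.Agent.H905.exists_isMaximalIn_of_lt (lt_of_le_of_ne hX hne)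
  have hι : Fintype.card (Fin 4) = 4 := by simp
  have hc : Nat.card F = Fintype.card F := Nat.card_eq_fintype_card
  have hr' : PP 2 (f * 4) r := by rw [mul_comm]; exact hr
  have hrq : PP (Nat.card F) 4 r := by rw [hc, hF]; exact hr'.of_pow (by omega)
  have heven : ¬ Odd (Fintype.card F) := by
    rw [hF, Nat.not_odd_iff_even]
    exact Even.pow_of_ne_zero even_two (by omega)
  have hrl := hr.lt (by omega)
  -- an irreducible element
  obtain ⟨y, hyX, hyr, hy1⟩ := Cfsg.Agent.H901.SaxSp.exists_elt' hr.prime hrX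
  have hirr : ∀ W : Submodule F (Fin 4 → F), (∀ v ∈ W, (y : Matrix (Fin 4) (Fin 4) F) *ᵥ v ∈ W) → W = ⊥ ∨ W = ⊤ :=
    Cfsg.Agent.H262.El.irr_of_od (by rw [hι, ← hc]; exact Cfsg.Agent.H901.SaxSp.PP.od hrq (by omega)) hyr hy1
  rcases S5781.result H hH with ⟨W, h0, h1, rfl⟩ | ⟨-, D, hD, rfl⟩ | ⟨-, D, hD, rfl⟩ | ⟨K, hK, rfl⟩ |
      ⟨F₀, t, P, ht, hct, rfl⟩ | ⟨p, R, hp, hcp, hp4, -, rfl⟩ | ⟨hodd, -⟩ | ⟨g, hg, rfl⟩ | ⟨σ, g, hg, rfl⟩ | hS
  · exact absurd (hXH hyX).1 (Cfsg.Agent.H262.El.not_mem_subspaceStabilizer_of_irr hirr h0 h1)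
  · have := decomp_le hD (hXH.trans inf_le_left) hrq (by omega) hrX
    omega
  · have := decomp_le hD (hXH.trans inf_le_left) hrq (by omega) hrX
    omega
  · have h1 := card_field hF hK (hXH.trans inf_le_left)
    refine ⟨fun h => ?_, Or.inl (H544.Rg.fac_le h1 ?_)⟩
    · have h2 := h.trans h1
      rw [hs.prime.dvd_mul, hs.prime.dvd_mul, hs.prime.dvd_mul] at h2
      rcases h2 with (h2 | h2) | h2 | h2
      · exact not_dvd_two_pow hs (by omega) 1 (by rw [pow_one]; exact h2)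
      · rw [← pow_mul] at h2
        exact not_dvd_two_pow hs (by omega) _ h2
      · exact not_dvd_sub hs (three_not_dvd (by omega) (by norm_num)) h2
      · exact not_dvd_sub hs (three_not_dvd (by omega) (by norm_num)) h2
    · rw [mul_comm]
      exact odd_mul (by omega)
  · exfalso
    exact kill_subfield (hXH.trans inf_le_left) ht (by rw [hc]; exact hct) Nat.prime_two (by rw [hc]; exact hF) hr'
      (by omega) (by omega) hrX
  · exfalso
    apply heven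
    rw [hcp, Nat.odd_iff]
    omega
  · exact absurd hodd heven
  · exact symp_case hF hf hr hs hg hXH hrX
  · exact (unit_false hF (by omega) hr hg (hXH.trans inf_le_left) hrX).elim
  · exact (hres H hH hS).elim

end Cfsg.Agent.H528.O6p
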