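import Cfsg.Agent.H528.O6p.Lin
import Cfsg.Agent.H659.Rs.Box
import Cfsg.Agent.H955.QClass
import Cfsg.Agent.H883.Bridge
import Cfsg.Agent.H185.IsoTransport
import Cfsg.Agent.S0302
import Cfsg.Agent.ClassicalGeometry.OrthDickson
import Cfsg.Agent.LieClassical.OrthCenter

/-!
# S3691, task SP68-5: subgroups of `O_6^+(2^f)` (helper528)
-/

set_option autoImplicit false

namespace Cfsg.Agent.H528.O6p

open Cfsg Cfsg.Geo Module
open scoped MatrixGroups Matrix

variable {F : Type} [Field F]

theorem sl_center [CharP F 2] : Subgroup.center (Matrix.SpecialLinearGroup (Fin 4) F) = ⊥ := by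
  rw [eq_bot_iff]
  intro A hA
  obtain ⟨c, hc, h⟩ := Matrix.SpecialLinearGroup.mem_center_iff.1 hA
  rw [Fintype.card_fin] at hc
  have h5 : (c + 1) ^ 4 = 0 := by
    have e : (c + 1) ^ 4 = ((c + 1) ^ 2) ^ 2 := by ring
    rw [e, CharTwo.add_sq, CharTwo.add_sq, one_pow, one_pow, ← pow_mul, hc]
    exact CharTwo.add_self_eq_zero 1
  have h6 := pow_eq_zero_iff (by norm_num) |>.1 h5
  have h7 : c = 1 := CharTwo.add_eq_zero.1 h6
  rw [Subgroup.mem_bot]
  apply Subtype.ext
  rw [← h, h7, map_one]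
  rfl

theorem toGL_range : (Matrix.SpecialLinearGroup.toGL (n := Fin 4) (R := F)).range = specialLinear (Fin 4) F := by
  ext x
  constructor
  · rintro ⟨A, rfl⟩
    apply Units.ext
    exact A.2
  · intro hx
    have h1 : Matrix.GeneralLinearGroup.det x = 1 := hx
    exact ⟨⟨(x : Matrix (Fin 4) (Fin 4) F), congrArg Units.val h1⟩, Units.ext rfl⟩

theorem toGL_injective : Function.Injective (Matrix.SpecialLinearGroup.toGL (n := Fin 4) (R := F)) := by
  intro A B h
  exact Subtype.ext (congrArg Units.val h)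

/-- **`Ω_6^+(q) = SL_4(q)`**, `q` even -/
theorem exists_iso [Fintype F] [CharP F 2] {Q : (Fin 3 ⊕ Fin 3 → F) → F} (hQ : IsNondegenerateQuadraticForm Q)
    (hp : IsPlusTypeOn Q ⊤) :
    ∃ κ : Omega F Q →* GL (Fin 4) F, Function.Injective κ ∧ κ.range = specialLinear (Fin 4) F := by
  obtain ⟨Q', hQ', hnd⟩ := H883.Bridge.exists_quadraticForm hQ
  subst hQ'
  have hplus : H955.IsPlus Q' := by
    obtain ⟨U, -, hU0, hd⟩ := hp
    exact ⟨U, fun u hu => hU0 u hu, by rw [hd, finrank_top]⟩
  obtain ⟨e, he⟩ := H955.exists_plus_equiv 3 Q' hnd (by rw [Module.finrank_fintype_fun_eq_card]; simp) hplus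
  obtain ⟨T, hT⟩ := H198.SemiMat.exists_gl (RingEquiv.refl F) e e.bijective (map_add _) (map_smul _)
  have hT' : ∀ v, (LieClassical.QuadForms.plusForm 3 F) ((T : Matrix (Fin 3 ⊕ Fin 3) (Fin 3 ⊕ Fin 3) F) *ᵥ v) = Q' v := by
    intro v
    rw [← he v, hT v]
    rfl
  have e1 := H185.IsoTransport.omE hT'
  rw [LieClassical.QuadForms.coe_plusForm] at e1
  obtain ⟨e2⟩ := S0302.result (F := F)
  have hc : Subgroup.center (Omega F (quadFormPlus 3 F)) = ⊥ := by
    have h := LieClassical.OrthCenter.center_omega_eq_bot_char_two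
      (Q := LieClassical.OmegaReindex.quadPlus 3 F) CharTwo.two_eq_zero
      LieClassical.OmegaReindex.quadPlus_nondegenerate (by decide)
      (LieClassical.OmegaReindex.quadPlus_isotropic (by norm_num))
    rw [LieClassical.OmegaReindex.coe_quadPlus] at h
    exact h
  have e3 : Omega F (quadFormPlus 3 F) ≃* POmega F (quadFormPlus 3 F) :=
    ((QuotientGroup.quotientMulEquivOfEq hc).trans QuotientGroup.quotientBot).symm
  have e4 : Matrix.ProjectiveSpecialLinearGroup (Fin 4) F ≃* Matrix.SpecialLinearGroup (Fin 4) F :=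
    (QuotientGroup.quotientMulEquivOfEq sl_center).trans QuotientGroup.quotientBot
  let ψ : Omega F (⇑Q') ≃* Matrix.SpecialLinearGroup (Fin 4) F := ((e1.trans e3).trans e2).trans e4
  refine ⟨Matrix.SpecialLinearGroup.toGL.comp ψ.toMonoidHom, toGL_injective.comp ψ.injective, ?_⟩
  rw [MonoidHom.range_comp]
  have h1 : ψ.toMonoidHom.range = ⊤ := MonoidHom.range_eq_top.2 ψ.surjective
  rw [h1, ← MonoidHom.range_eq_map, toGL_range]

/-- index two -/
theorem index_two [Fintype F] [CharP F 2] {Q : (Fin 3 ⊕ Fin 3 → F) → F}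
    (hQ : IsNondegenerateQuadraticForm Q) : (Omega F Q).index = 2 := by
  obtain ⟨Q', hQ', hnd⟩ := H883.Bridge.exists_quadraticForm hQ
  subst hQ'
  refine ClassicalGeometry.OrthDickson.index_commutator_two Q' CharTwo.two_eq_zero
    (LieClassical.OmegaReindex.nondegenerate_of_left Q' hnd) (Or.inr (by simp))

theorem card_subgroupOf {G : Type*} [Group G] (H K : Subgroup G) : Nat.card (H.subgroupOf K) = Nat.card (H ⊓ K : Subgroup G) := by
  rw [← Subgroup.inf_subgroupOf_right]
  exact Nat.card_congr (Subgroup.subgroupOfEquivOfLe inf_le_right).toEquiv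

/-- **BoxO6p** from S5782 -/
theorem boxO6p_of (hres : ∀ (F : Type) [Field F] [Fintype F], ¬ (Fintype.card F).Prime → NoRes F) :
    Cfsg.Agent.H659.Rs.BoxO6p := by
  intro F _ _ f r s hf hF hr hs Q hQ hp R hR hrR
  have hchar : CharP F 2 := H544.Rg.charP_two hF
  have hr' : H884.El.PP 2 (4 * f) r := ⟨hr.prime, hr.ord⟩
  have hs' : H884.El.PP 2 (3 * f) s := ⟨hs.prime, hs.ord⟩
  obtain ⟨κ, hκ, hrange⟩ := exists_iso hQ hp
  have hidx := index_two hQ
  obtain ⟨R1, hR1⟩ : ∃ R1, R1 = R.subgroupOf (isometryGroup F Q) := ⟨_, rfl⟩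
  have hc1 : Nat.card R1 = Nat.card R := by
    rw [hR1]
    exact Nat.card_congr (Subgroup.subgroupOfEquivOfLe hR).toEquiv
  obtain ⟨X, hX⟩ : ∃ X, X = (R1.subgroupOf (Omega F Q)).map κ := ⟨_, rfl⟩
  have hcX : Nat.card X = Nat.card (R1.subgroupOf (Omega F Q)) := by
    rw [hX]
    exact Subgroup.card_map_of_injective hκ
  -- the index
  obtain ⟨t, ht, hcR⟩ : ∃ t, t ∣ 2 ∧ Nat.card R = Nat.card X * t := by
    refine ⟨(Omega F Q).relIndex R1, ?_, ?_⟩
    · rw [← hidx]
      exact Subgroup.relIndex_dvd_index_of_normal _ _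
    · rw [← hc1, hcX, card_subgroupOf, inf_comm, ← card_subgroupOf]
      exact (Subgroup.card_mul_index _).symm
  have hrX : r ∣ Nat.card X := by
    rw [hcR, hr.prime.dvd_mul] at hrR
    refine hrR.resolve_right fun h => ?_
    exact not_dvd_two_pow hr' (by omega) 1 (by rw [pow_one]; exact h.trans ht)
  have hle : X ≤ specialLinear (Fin 4) F := by
    rw [hX, ← hrange]
    exact Subgroup.map_le_range κ _
  by_cases hne : X = specialLinear (Fin 4) F
  · left
    have h1 : R1.subgroupOf (Omega F Q) = ⊤ := by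
      apply Subgroup.map_injective hκ
      rw [← hX, hne, ← hrange, MonoidHom.range_eq_map]
    have h2 : Omega F Q ≤ R1 := Subgroup.subgroupOf_eq_top.1 h1
    rintro _ ⟨x, hx, rfl⟩
    have h3 := h2 hx
    rw [hR1] at h3
    exact h3
  · right
    obtain ⟨h1, h2⟩ := sl_four (hres F (by rw [hF]; exact Nat.Prime.not_prime_pow (by omega))) hF (by omega) hr' hs' hle hne hrX
    have ht0 : t ≠ 0 := by
      rintro rfl
      exact absurd (zero_dvd_iff.1 ht) (by norm_num)
    have ht1 : t.factorization 2 ≤ 1 := by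
      have := (Nat.factorization_le_iff_dvd ht0 (by norm_num)).2 ht 2
      rwa [Nat.Prime.factorization_self Nat.prime_two] at this
    have hX0 : Nat.card X ≠ 0 := Nat.card_pos.ne'
    have h3 : (Nat.card R).factorization 2 = (Nat.card X).factorization 2 + t.factorization 2 := by
      rw [hcR, Nat.factorization_mul hX0 ht0, Finsupp.add_apply]
    refine ⟨fun h => ?_, ?_⟩
    · rw [hcR, hs.prime.dvd_mul] at h
      refine h.elim h1 fun h => ?_
      exact not_dvd_two_pow hs' (by omega) 1 (by rw [pow_one]; exact h.trans ht)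
    · change (Nat.card R).factorization 2 ≤ _ ∨ (_ ≤ (Nat.card R).factorization 2 ∧ (Nat.card R).factorization 2 ≤ _)
      omega

end Cfsg.Agent.H528.O6p
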