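import Cfsg.Agent.S5782

/-!
# S3691, task SP68-5 (helper528): the residual class of `SL_4(q)`, `q` not a prime

`Cfsg.Agent.H528.O6p.boxO6p_of no_res : BoxO6p` (boxO6p_of: H528/O6p/Main.lean; kept apart because the closure of S5782 is large).
-/

set_option autoImplicit false

namespace Cfsg.Agent.H528.O6p

/-- the hypothesis of `boxO6p_of` -/
theorem no_res (F : Type) [Field F] [Fintype F] (hF : ¬ (Fintype.card F).Prime)
    (H : Subgroup (Matrix.GeneralLinearGroup (Fin 4) F)) (hH : Cfsg.Geo.IsMaximalIn (Cfsg.Geo.specialLinear (Fin 4) F) H) :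
    ¬ Cfsg.Geo.InLinearResidualClass H := by
  intro hS
  obtain ⟨P, p, -, hp, hcp, -⟩ := Cfsg.Agent.S5782.result H hH hS
  exact hF (hcp ▸ hp)

end Cfsg.Agent.H528.O6p
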